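import Mathlib

set_option autoImplicit false
universe u

namespace Groth.Agent.CubicSec8
open MvPolynomial Matrix

theorem eval_scale {σ : Type} [Fintype σ] {k : Type u} [CommRing k] {g : MvPolynomial σ k} {d : ℕ} (hg : g.IsHomogeneous d)
    (t : k) (y : σ → k) : eval (fun i => t * y i) g = t ^ d * eval y g := by
  rw [eval_eq', eval_eq', Finset.mul_sum]
  refine Finset.sum_congr rfl fun m hm => ?_
  have hdeg : ∑ i, m i = d := by
    have := hg (mem_support_iff.mp hm)
    rw [Finsupp.weight_apply, Finsupp.sum_fintype _ _ (by simp)] at this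
    simpa using this
  simp only [mul_pow, Finset.prod_mul_distrib, Finset.prod_pow_eq_pow_sum, hdeg]
  ring

theorem pderiv_subst {k : Type u} [CommRing k] {a b : ℕ} (L : Fin a → MvPolynomial (Fin b) k) (j : Fin b)
    (f : MvPolynomial (Fin a) k) :
    pderiv j (aeval L f) = ∑ i, aeval L (pderiv i f) * pderiv j (L i) := by
  induction f using MvPolynomial.induction_on with
  | C r => simp
  | add p q hp hq => simp only [map_add, hp, hq, add_mul, Finset.sum_add_distrib]
  | mul_X p i hp =>
    rw [map_mul, aeval_X, pderiv_mul, hp]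
    simp only [pderiv_mul, pderiv_X, map_add, map_mul, aeval_X, add_mul, Finset.sum_add_distrib, Finset.sum_mul]
    congr 1
    · exact Finset.sum_congr rfl fun l _ => by ring
    · rw [Finset.sum_eq_single i (fun l _ hl => by simp [Pi.single_eq_of_ne' hl]) (by simp)]
      simp

theorem eval_aeval_poly {σ : Type} {k : Type u} [CommRing k] (L : σ → Polynomial k) (t : k) (q : MvPolynomial σ k) :
    (aeval L q).eval t = eval (fun i => (L i).eval t) q := by
  induction q using MvPolynomial.induction_on with
  | C r => simp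
  | add p q hp hq => simp only [map_add, Polynomial.eval_add, hp, hq]
  | mul_X p i hp => rw [map_mul, Polynomial.eval_mul, hp, map_mul, aeval_X, eval_X]

theorem squarefree_section (k : Type u) [Field k] [IsAlgClosed k]
    (f : MvPolynomial (Fin 4) k) (hf : f.IsHomogeneous 3)
    (hsm : ∀ v : Fin 4 → k, v ≠ 0 → MvPolynomial.eval v f = 0 →
      ∃ i : Fin 4, MvPolynomial.eval v (MvPolynomial.pderiv i f) ≠ 0)
    (A : Matrix (Fin 4) (Fin 3) k) (hA : A.rank = 3) :
    Squarefree (MvPolynomial.aeval (fun i : Fin 4 => ∑ j : Fin 3, MvPolynomial.C (A i j) * MvPolynomial.X j) f) := by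
  classical
  haveI : Infinite k := IsAlgClosed.instInfinite
  let Ls : Fin 4 → MvPolynomial (Fin 3) k := fun i => ∑ j : Fin 3, C (A i j) * X j
  set g := aeval Ls f with hg
  have hgh : g.IsHomogeneous 3 := by
    have := hf.aeval (n := 1) Ls (fun i => IsHomogeneous.sum _ _ _ fun j _ => by simpa using (isHomogeneous_C (Fin 3) (A i j)).mul (isHomogeneous_X k j))
    simpa [hg] using this
  have hinj : Function.Injective A.mulVec := by
    have h1 := LinearMap.finrank_range_add_finrank_ker A.mulVecLin
    rw [show Module.finrank k (LinearMap.range A.mulVecLin) = 3 from hA, Module.finrank_fin_fun] at h1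
    have h2 : LinearMap.ker A.mulVecLin = ⊥ := Submodule.finrank_eq_zero.mp (by omega)
    exact LinearMap.ker_eq_bot.mp h2
  have heval : ∀ (y : Fin 3 → k) (q : MvPolynomial (Fin 4) k), eval y (aeval Ls q) = eval (A *ᵥ y) q := by
    intro y q
    induction q using MvPolynomial.induction_on with
    | C r => simp
    | add p q hp hq => simp only [map_add, hp, hq]
    | mul_X p i hp =>
      simp only [map_mul, aeval_X, eval_X, hp]
      simp [Ls, Matrix.mulVec, dotProduct]
  -- there is no plane of singular points
  have noplane : ∀ w : Fin 3 → k, ∃ y : Fin 3 → k, ∑ j, w j * y j = 0 ∧ (eval y g ≠ 0 ∨ ∃ j, eval y (pderiv j g) ≠ 0) := by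
    intro w
    by_contra! hall
    obtain ⟨v, hv⟩ : ∃ v : Fin 4 → k, v ∉ LinearMap.range A.mulVecLin := by
      by_contra! h
      have := congrArg (fun S : Submodule k (Fin 4 → k) => Module.finrank k S) (eq_top_iff.mpr fun x _ => h x : LinearMap.range A.mulVecLin = ⊤)
      simp only [finrank_top, Module.finrank_fin_fun] at this
      rw [show Module.finrank k (LinearMap.range A.mulVecLin) = 3 from hA] at this
      omega
    let G : MvPolynomial (Fin 4) k := ∑ i, C (v i) * pderiv i f
    have hG : G.IsHomogeneous 2 := IsHomogeneous.sum _ _ _ fun i _ => by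
      simpa using (isHomogeneous_C (Fin 4) (v i)).mul (hf.pderiv (i := i))
    let φ : (Fin 3 → k) →ₗ[k] k := ∑ j, w j • LinearMap.proj j
    have hφ : ∀ y, φ y = ∑ j, w j * y j := fun y => by simp [φ]
    have h2 : 2 ≤ Module.finrank k (LinearMap.ker φ) := by
      have h1 := LinearMap.finrank_range_add_finrank_ker φ
      have h3 := Submodule.finrank_le (LinearMap.range φ)
      rw [Module.finrank_fin_fun] at h1
      rw [Module.finrank_self] at h3
      omega
    obtain ⟨b, hb⟩ := exists_linearIndependent_of_le_finrank h2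
    have hb' := hb.map' (LinearMap.ker φ).subtype (Submodule.ker_subtype _)
    obtain ⟨y, hyφ, hy0, hyG⟩ : ∃ y, φ y = 0 ∧ y ≠ 0 ∧ eval (A *ᵥ y) G = 0 := by
      by_cases hlast : eval (A *ᵥ (b 1 : Fin 3 → k)) G = 0
      · exact ⟨b 1, LinearMap.mem_ker.mp (b 1).2, hb'.ne_zero 1, hlast⟩
      let P : Polynomial k := aeval (fun i => Polynomial.C ((A *ᵥ (b 0 : Fin 3 → k)) i) + Polynomial.X * Polynomial.C ((A *ᵥ (b 1 : Fin 3 → k)) i)) G
      have hP : ∀ t, P.eval t = eval (A *ᵥ ((b 0 : Fin 3 → k) + t • (b 1 : Fin 3 → k))) G := by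
        intro t
        simp only [P, Matrix.mulVec_add, Matrix.mulVec_smul, eval_aeval_poly]
        congr 2; funext i; simp; ring
      by_cases hdeg : P.degree = 0
      · exfalso
        obtain ⟨c, hc⟩ : ∃ c, P = Polynomial.C c := ⟨P.coeff 0, Polynomial.eq_C_of_degree_le_zero hdeg.le⟩
        -- G(s • b0 + b1) = c s² for s ≠ 0
        let Q : Polynomial k := aeval (fun i => Polynomial.X * Polynomial.C ((A *ᵥ (b 0 : Fin 3 → k)) i) + Polynomial.C ((A *ᵥ (b 1 : Fin 3 → k)) i)) G
        have hQ : ∀ s, Q.eval s = eval (A *ᵥ (s • (b 0 : Fin 3 → k) + (b 1 : Fin 3 → k))) G := by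
          intro s
          simp only [Q, Matrix.mulVec_add, Matrix.mulVec_smul, eval_aeval_poly]
          congr 2; funext i; simp; ring
        have hQeq : Q - Polynomial.C c * Polynomial.X ^ 2 = 0 := by
          refine Polynomial.eq_zero_of_infinite_isRoot _ (Set.Infinite.mono (s := {s | s ≠ 0}) (fun s hs => ?_) ?_)
          · show Polynomial.IsRoot _ s
            have e : A *ᵥ (s • (b 0 : Fin 3 → k) + (b 1 : Fin 3 → k)) = fun i => s * (A *ᵥ ((b 0 : Fin 3 → k) + s⁻¹ • (b 1 : Fin 3 → k))) i := by
              funext i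
              simp only [Matrix.mulVec_add, Matrix.mulVec_smul, Pi.add_apply, Pi.smul_apply, smul_eq_mul]
              rw [mul_add, ← mul_assoc, mul_inv_cancel₀ hs, one_mul]
            simp [Polynomial.IsRoot, hQ, e, eval_scale hG, ← hP, hc]
            ring
          · exact (Set.finite_singleton (0 : k)).infinite_compl
        have := congrArg (Polynomial.eval 0) hQeq
        simp [hQ] at this
        exact hlast this
      · obtain ⟨t, ht⟩ := IsAlgClosed.exists_root P hdeg
        refine ⟨_, ?_, ?_, (hP t).symm.trans ht⟩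
        · rw [map_add, map_smul, LinearMap.mem_ker.mp (b 0).2, LinearMap.mem_ker.mp (b 1).2, smul_zero, add_zero]
        · intro h
          have := Fintype.linearIndependent_iff.mp hb' ![1, t] (by simpa [Fin.sum_univ_two] using h) 0
          simp at this
    obtain ⟨hg0, hgd⟩ := hall y (by rw [← hφ]; exact hyφ)
    obtain ⟨i, hi⟩ := hsm (A *ᵥ y) (fun h => hy0 (hinj (by rw [h, Matrix.mulVec_zero]))) (by rw [← heval]; exact hg0)
    let ψ : (Fin 4 → k) →ₗ[k] k := ∑ i, eval (A *ᵥ y) (pderiv i f) • LinearMap.proj i
    have hψ : ∀ z, ψ z = ∑ i, eval (A *ᵥ y) (pderiv i f) * z i := fun z => by simp [ψ]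
    have hψA : ∀ z, ψ (A *ᵥ z) = 0 := by
      intro z
      have hcol : ∀ j, ∑ i, eval (A *ᵥ y) (pderiv i f) * A i j = 0 := by
        intro j
        have h1 := hgd j
        rw [hg, pderiv_subst, map_sum] at h1
        refine (Finset.sum_congr rfl fun i _ => ?_).trans h1
        rw [map_mul, heval]
        congr 1
        simp [Ls, Pi.single_apply]
      rw [hψ]
      simp only [Matrix.mulVec, dotProduct, Finset.mul_sum]
      rw [Finset.sum_comm]
      refine Finset.sum_eq_zero fun j _ => ?_
      simp only [← mul_assoc]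
      rw [← Finset.sum_mul, hcol, zero_mul]
    have hψv : ψ v = 0 := by
      rw [hψ, ← hyG]
      simp [G, map_sum, mul_comm]
    have hψ0 : ∀ z, ψ z = 0 := by
      have hlt : LinearMap.range A.mulVecLin < LinearMap.ker ψ :=
        lt_of_le_of_ne (by rintro _ ⟨z, rfl⟩; exact hψA z) fun h => hv (h ▸ hψv)
      have h1 := Submodule.finrank_lt_finrank_of_lt hlt
      rw [show Module.finrank k (LinearMap.range A.mulVecLin) = 3 from hA] at h1
      have h2 := Submodule.finrank_le (LinearMap.ker ψ)
      rw [Module.finrank_fin_fun] at h2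
      have h3 : LinearMap.ker ψ = ⊤ := Submodule.eq_top_of_finrank_eq (by rw [Module.finrank_fin_fun]; omega)
      exact fun z => LinearMap.mem_ker.mp (h3 ▸ Submodule.mem_top)
    have h5 := hψ0 (Pi.single i 1)
    rw [hψ, Finset.sum_eq_single i (fun l _ hl => by simp [hl]) (by simp)] at h5
    simp at h5
    exact hi h5
  have hgne : g ≠ 0 := by
    intro h
    obtain ⟨y, -, hy⟩ := noplane 0
    simp [h] at hy
  intro x hx
  obtain ⟨q, hq⟩ := hx
  have hx0 : x ≠ 0 := fun h => hgne (by rw [hq, h]; simp)
  have hq0 : q ≠ 0 := fun h => hgne (by rw [hq, h]; simp)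
  rcases Nat.eq_zero_or_pos x.totalDegree with hd | hd
  · rw [totalDegree_eq_zero_iff_eq_C] at hd
    rw [hd]
    exact (Ne.isUnit (fun h => hx0 (by rw [hd, h, map_zero]))).map C
  exfalso
  have hdeg : x.totalDegree = 1 := by
    have h1 : g.totalDegree = x.totalDegree + x.totalDegree + q.totalDegree := by
      rw [hq, totalDegree_mul_of_isDomain (mul_ne_zero hx0 hx0) hq0, totalDegree_mul_of_isDomain hx0 hx0]
    rw [hgh.totalDegree hgne] at h1
    omega
  let w : Fin 3 → k := fun j => coeff (Finsupp.single j 1) x
  let c : k := coeff 0 x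
  have hxe : ∀ y, eval y x = (∑ j, w j * y j) + c := by
    have hx1 : x = (∑ j, C (w j) * X j) + C c := by
      ext m
      simp only [coeff_add, coeff_sum, coeff_C_mul, coeff_X', coeff_C]
      by_cases hm0 : m = 0
      · subst hm0
        simp [c, eq_comm (a := (0 : Fin 3 →₀ ℕ))]
      · rw [if_neg (Ne.symm hm0), add_zero]
        by_cases hm : m ∈ x.support
        · have h1 := le_totalDegree hm
          rw [hdeg, Finsupp.sum_fintype _ _ (by simp)] at h1
          have : ∃ j, m = Finsupp.single j 1 := by
            obtain ⟨j, hj⟩ := Finsupp.ne_iff.mp hm0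
            simp only [Finsupp.coe_zero, Pi.zero_apply] at hj
            refine ⟨j, Finsupp.ext fun l => ?_⟩
            have h4 := Finset.sum_erase_add Finset.univ (fun i => m i) (Finset.mem_univ j)
            rcases eq_or_ne l j with rfl | hl
            · rw [Finsupp.single_eq_same]; omega
            · rw [Finsupp.single_eq_of_ne hl]
              have h5 : m l ≤ ∑ i ∈ Finset.univ.erase j, m i := Finset.single_le_sum (fun i _ => Nat.zero_le _) (Finset.mem_erase.mpr ⟨hl, Finset.mem_univ _⟩)
              omega
          obtain ⟨j, rfl⟩ := this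
          rw [Finset.sum_eq_single j (fun l _ hl => by simp [Finsupp.single_left_inj, hl]) (by simp)]
          simp [w]
        · rw [notMem_support_iff.mp hm]
          symm
          refine Finset.sum_eq_zero fun j _ => ?_
          split_ifs with h
          · subst h; simp [w, notMem_support_iff.mp hm]
          · simp
    intro y
    conv_lhs => rw [hx1]
    simp
  have hsing : ∀ y, eval y x = 0 → eval y g = 0 ∧ ∀ j, eval y (pderiv j g) = 0 := by
    intro y hy
    refine ⟨by rw [hq]; simp [hy], fun j => ?_⟩
    rw [hq, pderiv_mul, pderiv_mul]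
    simp [hy]
  by_cases hc : c = 0
  · obtain ⟨y, hy, hy'⟩ := noplane w
    obtain ⟨h1, h2⟩ := hsing y (by rw [hxe, hy, hc, add_zero])
    rcases hy' with h | ⟨j, h⟩
    · exact h h1
    · exact h (h2 j)
  · have hzero : g * (∑ j, C (w j) * X j) = 0 := by
      refine MvPolynomial.funext fun y => ?_
      rw [map_mul, map_zero]
      by_cases hL : ∑ j, w j * y j = 0
      · simp [hL]
      · have h1 := (hsing (fun j => (-c / ∑ l, w l * y l) * y j) (by
          rw [hxe]
          simp only [mul_left_comm (w _), ← Finset.mul_sum]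
          rw [div_mul_cancel₀ _ hL, neg_add_cancel])).1
        rw [eval_scale hgh] at h1
        rw [(mul_eq_zero.mp h1).resolve_left (pow_ne_zero _ (div_ne_zero (neg_ne_zero.mpr hc) hL)), zero_mul]
    rcases mul_eq_zero.mp hzero with h | h
    · exact hgne h
    · have : ∀ y, eval y x = c := fun y => by
        rw [hxe]
        have := congrArg (eval y) h
        simp at this
        rw [this, zero_add]
      have hxC : x = C c := MvPolynomial.funext fun y => by rw [this y, eval_C]
      rw [hxC, totalDegree_C] at hdeg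
      omega

end Groth.Agent.CubicSec8
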